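import Groth.Agent.CAlgAndre.Lift
import Groth.Agent.CohenLift.Basic
import Groth.Agent.RegLocus.Smooth
import Mathlib

/-!
# Flat presentations of local homomorphisms of complete local rings
-/

set_option autoImplicit false

universe u

open IsLocalRing MvPowerSeries Groth.Agent.FSAdic

namespace Groth.Agent.CAlgPres

/-- Ring maps out of a power series ring into a separated local ring are determined on constants and variables. -/
theorem ringHom_ext {Λ B : Type u} [CommRing Λ] [CommRing B] [IsLocalRing B] [IsNoetherianRing B] {n : ℕ}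
    (f g : MvPowerSeries (Fin n) Λ →+* B) (hC : ∀ a, f (C a) = g (C a)) (hX : ∀ i, f (X i) = g (X i))
    (hm : ∀ i, f (X i) ∈ maximalIdeal B) : f = g := by
  refine RingHom.ext fun x => ?_
  rw [← sub_eq_zero]
  refine IsHausdorff.haus (I := maximalIdeal B) (M := B) inferInstance _ fun N => ?_
  rw [SModEq.zero, smul_eq_mul, Ideal.mul_top]
  have hpoly : f.comp (MvPolynomial.coeToMvPowerSeries.ringHom) = g.comp (MvPolynomial.coeToMvPowerSeries.ringHom) :=
    MvPolynomial.ringHom_ext (fun a => by simp [hC]) (fun i => by simp [hX])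
  have h1 := sub_truncTotal_mem (A := Λ) (n := n) N x
  have hmap : ∀ h : MvPowerSeries (Fin n) Λ →+* B, (∀ i, h (X i) ∈ maximalIdeal B) →
      h (x - (truncTotal N x : MvPolynomial (Fin n) Λ)) ∈ maximalIdeal B ^ N := fun h hh => by
    have h2 : (augIdeal Λ n).map h ≤ maximalIdeal B := by
      rw [augIdeal_eq_span, Ideal.map_span, Ideal.span_le]
      rintro _ ⟨_, ⟨i, rfl⟩, rfl⟩
      exact hh i
    refine Ideal.pow_right_mono h2 N ?_
    rw [← Ideal.map_pow]
    exact Ideal.mem_map_of_mem h h1
  have hf := hmap f hm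
  have hg := hmap g fun i => hX i ▸ hm i
  rw [map_sub] at hf hg
  have := RingHom.congr_fun hpoly (truncTotal N x)
  simp only [RingHom.comp_apply, MvPolynomial.coeToMvPowerSeries.ringHom_apply] at this
  rw [show f x - g x = (f x - f (truncTotal N x : MvPolynomial (Fin n) Λ)) -
    (g x - g (truncTotal N x : MvPolynomial (Fin n) Λ)) by rw [this]; ring]
  exact sub_mem hf hg

theorem exists_generators' (R : Type u) [CommRing R] [IsLocalRing R] [IsNoetherianRing R] :
    ∃ (n : ℕ) (z : Fin n → R), Ideal.span (Set.range z) = maximalIdeal R := by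
  obtain ⟨s, hs⟩ := (maximalIdeal R).fg_of_isNoetherianRing
  refine ⟨s.card, fun i => (s.equivFin.symm i : R), ?_⟩
  rw [← hs]
  congr 1
  ext y
  exact ⟨fun ⟨i, hi⟩ => hi ▸ (s.equivFin.symm i).2, fun hy => ⟨s.equivFin ⟨y, hy⟩, by simp⟩⟩

/-- The presentation from coefficient rings. -/
theorem exists_presentation {A B : Type u} [CommRing A] [CommRing B] [IsLocalRing A] [IsLocalRing B]
    [IsNoetherianRing A] [IsNoetherianRing B] [IsAdicComplete (maximalIdeal A) A]
    [IsAdicComplete (maximalIdeal B) B] [Algebra A B] [IsLocalHom (algebraMap A B)]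
    {Λ Λ' : Type u} [CommRing Λ] [CommRing Λ'] [IsRegularLocalRing Λ] [IsRegularLocalRing Λ']
    [IsAdicComplete (maximalIdeal Λ') Λ'] (hW : EGA41.IsCohenRingEGA Λ)
    (hdim : ringKrullDim Λ' = ringKrullDim Λ) (π : ℕ) (hπ : maximalIdeal Λ = Ideal.span {(π : Λ)})
    (hπ' : maximalIdeal Λ' = Ideal.span {(π : Λ')})
    (φA : Λ →+* A) (hφA : Function.Surjective ((residue A).comp φA))
    (φB : Λ' →+* B) (hφB : Function.Surjective ((residue B).comp φB)) :
    ∃ (n m : ℕ) (ρ : MvPowerSeries (Fin n) Λ →+* A) (σ : MvPowerSeries (Fin m) Λ' →+* B)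
      (τ : MvPowerSeries (Fin n) Λ →+* MvPowerSeries (Fin m) Λ'),
      Function.Surjective ρ ∧ Function.Surjective σ ∧ σ.comp τ = (algebraMap A B).comp ρ ∧
      τ.Flat ∧ IsRegularRing (MvPowerSeries (Fin m) Λ' ⧸
        (maximalIdeal (MvPowerSeries (Fin n) Λ)).map τ) := by
  obtain ⟨n, z, hz⟩ := exists_generators' A
  obtain ⟨d, w, hw⟩ := exists_generators' B
  have hzm : ∀ i, z i ∈ maximalIdeal A := fun i => hz ▸ Ideal.subset_span ⟨i, rfl⟩
  obtain ⟨ρ, hρX, hρC⟩ := CAlgCohen.exists_eval φA z hzm
  let v : Fin (n + d) → B := Fin.append (fun i => algebraMap A B (z i)) w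
  have hlm : (maximalIdeal A).map (algebraMap A B) ≤ maximalIdeal B :=
    Ideal.map_le_iff_le_comap.2 fun a ha hu => ha (isUnit_of_map_unit _ a hu)
  have hv : ∀ i, v i ∈ maximalIdeal B := fun i => by
    induction i using Fin.addCases with
    | left i => simp only [v, Fin.append_left]; exact hlm (Ideal.mem_map_of_mem _ (hzm i))
    | right i => simp only [v, Fin.append_right]; exact hw ▸ Ideal.subset_span ⟨i, rfl⟩
  obtain ⟨σ, hσX, hσC⟩ := CAlgCohen.exists_eval φB v hv
  have hσ : Function.Surjective σ := CAlgCohen.surjective_eval φB hφB v σ hσX hσC (by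
    refine le_antisymm (Ideal.span_le.2 fun _ ⟨i, hi⟩ => hi ▸ hv i) (hw.ge.trans (Ideal.span_mono ?_))
    rintro _ ⟨i, rfl⟩
    exact ⟨Fin.natAdd n i, Fin.append_right _ _ i⟩)
  let S := MvPowerSeries (Fin (n + d)) Λ'
  let R := MvPowerSeries (Fin n) Λ
  obtain ⟨hS, hSd⟩ := CAlgAndre.isRegular_mvPowerSeries Λ' (n + d)
  obtain ⟨hR, hRd⟩ := CAlgAndre.isRegular_mvPowerSeries Λ n
  haveI := hS
  haveI := hR
  haveI : IsAdicComplete (maximalIdeal S) S := CAlgCohen.isAdicComplete_mvPowerSeries Λ' (n + d)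
  let e : (S ⧸ RingHom.ker σ) ≃+* B := RingHom.quotientKerEquivOfSurjective hσ
  obtain ⟨ψ, hψ⟩ := CohenLift.exists_lift hW (RingHom.ker σ) (RingHom.ker_ne_top σ)
    (e.symm.toRingHom.comp ((algebraMap A B).comp φA)) (fun x hx => by
      obtain ⟨s, hs⟩ := Ideal.Quotient.mk_surjective (e.symm.toRingHom.comp ((algebraMap A B).comp φA) x)
      rw [← hs, Ideal.Quotient.factor_mk, Ideal.Quotient.eq_zero_iff_mem, mem_maximalIdeal]
      intro hu
      have h1 : IsUnit (algebraMap A B (φA x)) := by
        have h2 : e (Ideal.Quotient.mk _ s) = algebraMap A B (φA x) := by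
          rw [hs]; exact e.apply_symm_apply _
        rw [← h2]
        exact (hu.map _).map e
      have h3 : IsUnit (φA x) := isUnit_of_map_unit _ _ h1
      have h4 : IsUnit (residue A (φA x)) := h3.map _
      rw [hπ, Ideal.mem_span_singleton] at hx
      obtain ⟨c, rfl⟩ := hx
      have h5 : residue A (φA (π : Λ)) = 0 := by
        by_contra hne
        obtain ⟨y, hy⟩ := hφA ((residue A (φA (π : Λ)))⁻¹)
        have h6 : residue A (φA ((π : Λ) * y - 1)) = 0 := by
          rw [map_sub, map_sub, map_mul, map_mul, map_one, map_one, ← RingHom.comp_apply (residue A) φA y, hy,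
            mul_inv_cancel₀ hne, sub_self]
        have h7 : (π : Λ) * y - 1 ∈ maximalIdeal Λ := by
          by_contra hnm
          have h8 := ((IsLocalRing.notMem_maximalIdeal.1 hnm).map φA).map (residue A)
          rw [h6] at h8
          exact not_isUnit_zero h8
        have h9 : (π : Λ) * y ∈ maximalIdeal Λ := Ideal.mul_mem_right _ _ (hπ ▸ Ideal.subset_span rfl)
        have h10 := sub_mem h9 h7
        rw [sub_sub_cancel] at h10
        exact (maximalIdeal.isMaximal Λ).ne_top ((Ideal.eq_top_iff_one _).2 h10)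
      rw [map_mul, map_mul, h5, zero_mul] at h4
      exact not_isUnit_zero h4)
  have hσψ : ∀ x, σ (ψ x) = algebraMap A B (φA x) := fun x => by
    have h1 := congrArg e (RingHom.congr_fun hψ x)
    simp only [RingHom.comp_apply, RingEquiv.toRingHom_eq_coe, RingEquiv.coe_toRingHom, e.apply_symm_apply] at h1
    exact h1
  let xs : Fin n → S := fun i => X (Fin.castAdd d i)
  have hmS := CAlgCohen.maximalIdeal_mvPowerSeries Λ' (n + d)
  have hXm : ∀ j, (X j : S) ∈ maximalIdeal S := fun j => hmS.symm ▸ Submodule.mem_sup_right (X_mem_augIdeal j)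
  obtain ⟨τ, hτX, hτC⟩ := CAlgCohen.exists_eval ψ xs fun i => hXm _
  have hcomp : σ.comp τ = (algebraMap A B).comp ρ := by
    refine ringHom_ext _ _ (fun a => ?_) (fun i => ?_) fun i => ?_
    · rw [RingHom.comp_apply, RingHom.comp_apply, hτC, hρC, hσψ]
    · rw [RingHom.comp_apply, RingHom.comp_apply, hτX, hρX]
      show σ (X (Fin.castAdd d i)) = _
      rw [hσX]
      exact Fin.append_left _ _ i
    · rw [RingHom.comp_apply, hτX]
      show σ (X (Fin.castAdd d i)) ∈ _
      rw [hσX]
      exact hv _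
  refine ⟨n, n + d, ρ, σ, τ, CAlgCohen.surjective_eval φA hφA z ρ hρX hρC hz, hσ, hcomp, ?_⟩
  let F := MvPowerSeries (Fin d) (ResidueField Λ')
  let ys : Fin (n + d) → F := Fin.append (fun _ => 0) X
  haveI : IsAdicComplete (maximalIdeal (ResidueField Λ')) (ResidueField Λ') := by
    rw [isField_iff_maximalIdeal_eq.1 (Field.toIsField _)]; infer_instance
  haveI : IsAdicComplete (maximalIdeal F) F := CAlgCohen.isAdicComplete_mvPowerSeries (ResidueField Λ') d
  have hys : ∀ j, ys j ∈ maximalIdeal F := fun j => by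
    rw [CAlgCohen.maximalIdeal_mvPowerSeries]
    induction j using Fin.addCases with
    | left i => simp only [ys, Fin.append_left]; exact zero_mem _
    | right i => simp only [ys, Fin.append_right]; exact Submodule.mem_sup_right (X_mem_augIdeal i)
  obtain ⟨g, hgX, hgC⟩ := CAlgCohen.exists_eval ((C : ResidueField Λ' →+* F).comp (residue Λ')) ys hys
  have hg : Function.Surjective g := by
    refine CAlgCohen.surjective_eval _ (fun x => ?_) ys g hgX hgC ?_
    · obtain ⟨f, rfl⟩ := residue_surjective x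
      obtain ⟨l, hl⟩ := residue_surjective (constantCoeff f)
      refine ⟨l, ?_⟩
      rw [RingHom.comp_apply, ← sub_eq_zero, ← map_sub, residue_eq_zero_iff, CAlgCohen.maximalIdeal_mvPowerSeries]
      refine Submodule.mem_sup_right ?_
      rw [RingHom.mem_ker, map_sub, RingHom.comp_apply, constantCoeff_C, hl, sub_self]
    · rw [CAlgCohen.maximalIdeal_mvPowerSeries, isField_iff_maximalIdeal_eq.1 (Field.toIsField _), Ideal.map_bot,
        bot_sup_eq, augIdeal_eq_span]
      refine le_antisymm (Ideal.span_le.2 ?_) (Ideal.span_mono ?_)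
      · rintro _ ⟨j, rfl⟩
        induction j using Fin.addCases with
        | left i => simp only [ys, Fin.append_left]; exact zero_mem _
        | right i => simp only [ys, Fin.append_right]; exact Ideal.subset_span ⟨i, rfl⟩
      · rintro _ ⟨i, rfl⟩
        exact ⟨Fin.natAdd n i, Fin.append_right _ _ i⟩
  letI : Algebra R S := τ.toAlgebra
  have hmR := CAlgCohen.maximalIdeal_mvPowerSeries Λ n
  have hmap : (maximalIdeal R).map (algebraMap R S) =
      Ideal.span {(π : S)} ⊔ Ideal.span (Set.range xs) := by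
    rw [hmR, hπ, augIdeal_eq_span, Ideal.map_sup, Ideal.map_span, Ideal.map_span, Ideal.map_span,
      Set.image_singleton, Set.image_singleton, ← Set.range_comp, map_natCast, map_natCast,
      show (algebraMap R S) ∘ X = xs from funext hτX]
  have hπS : (π : S) ∈ maximalIdeal S := by
    rw [hmS, ← map_natCast (C : Λ' →+* S)]
    exact Submodule.mem_sup_left (Ideal.mem_map_of_mem _ (hπ' ▸ Ideal.subset_span rfl))
  haveI : IsLocalHom (algebraMap R S) := ((local_hom_TFAE (algebraMap R S)).out 2 0).1 (by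
    rw [hmap]
    exact sup_le ((Ideal.span_singleton_le_iff_mem _).2 hπS) (Ideal.span_le.2 fun _ ⟨i, hi⟩ => hi ▸ hXm _))
  have hker : (maximalIdeal R).map (algebraMap R S) ≤ RingHom.ker g := by
    rw [hmap]
    refine sup_le ((Ideal.span_singleton_le_iff_mem _).2 ?_) (Ideal.span_le.2 ?_)
    · rw [RingHom.mem_ker, ← map_natCast (C : Λ' →+* S), hgC, RingHom.comp_apply,
        (residue_eq_zero_iff _).2 (hπ' ▸ Ideal.subset_span rfl), map_zero]
    · rintro _ ⟨i, rfl⟩
      rw [SetLike.mem_coe, RingHom.mem_ker, hgX]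
      exact Fin.append_left _ _ i
  obtain ⟨hF, hFd⟩ := CAlgAndre.isRegular_mvPowerSeries (ResidueField Λ') d
  haveI := hF
  rw [ringKrullDim_eq_zero_of_isField (Field.toIsField _), zero_add] at hFd
  obtain ⟨hflat, hkereq⟩ := CAlgAndre.flat_and_ker_eq (R := R) (S := S) hFd (by
      rw [hSd, hRd, hdim, Nat.cast_add, add_assoc]) g hg hker (fun j => X (Fin.natAdd n j)) (fun j => hXm _) (by
    rw [hmap, hmS, hπ', augIdeal_eq_span, Ideal.map_span, Set.image_singleton, map_natCast]
    refine sup_le (le_sup_left.trans le_sup_left) (Ideal.span_le.2 ?_)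
    rintro _ ⟨j, rfl⟩
    induction j using Fin.addCases with
    | left i => exact Submodule.mem_sup_left (Submodule.mem_sup_right (Ideal.subset_span ⟨i, rfl⟩))
    | right i => exact Submodule.mem_sup_right (Ideal.subset_span ⟨i, rfl⟩))
  refine ⟨hflat, ?_⟩
  haveI : IsRegularRing F := RegLocus.isRegularRing_of_regular_local F
  exact IsRegularRing.of_ringEquiv (R := F)
    ((RingHom.quotientKerEquivOfSurjective hg).symm.trans (Ideal.quotEquivOfEq hkereq))

end Groth.Agent.CAlgPres
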